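import Groth.Agent.EGA43.UnibranchEtaleNbhd.Ring
import Groth.Agent.FlatMorWeight.UnibranchOpen
import Groth.Agent.FlatMor12.ElemNbhd
import Groth.Prelude.Def_Hens2

/-!
# Unibranch points and étale neighbourhoods (Stacks 06DM, 0C2B)
-/

set_option autoImplicit false
set_option backward.isDefEq.respectTransparency false
set_option linter.style.haveILetI false

universe u

open CategoryTheory CategoryTheory.Limits AlgebraicGeometry IsLocalRing TopologicalSpace Opposite

namespace Groth.Agent.EGA43.UnibranchEtaleNbhd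

open Groth.Agent Groth.Agent.HenselLib FlatMorWeight

/-- One component through a point means one maximal generalisation. -/
theorem encard_eq_one_iff {U : Scheme.{u}} (u : U) :
    {Z : Set ↑U | Z ∈ irreducibleComponents ↑U ∧ u ∈ Z}.encard = 1 ↔
      ∀ a b : U, IsMaximalPt a → IsMaximalPt b → a ⤳ u → b ⤳ u → a = b := by
  have hcomp : ∀ a : U, IsMaximalPt a → closure ({a} : Set U) ∈ irreducibleComponents ↑U := by
    intro a ha
    obtain ⟨η, hη, W, hW, hgen⟩ := exists_isMaximalPt_specializes a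
    rw [← ha η hη]
    exact hgen.symm ▸ hW
  constructor
  · intro h a b ha hb hau hbu
    obtain ⟨Z, hZ⟩ := Set.encard_eq_one.1 h
    have h1 : closure ({a} : Set U) = Z := hZ.le ⟨hcomp a ha, hau.mem_closure⟩
    have h2 : closure ({b} : Set U) = Z := hZ.le ⟨hcomp b hb, hbu.mem_closure⟩
    exact IsGenericPoint.eq (S := Z) h1 h2
  · intro h
    refine Set.encard_eq_one.2 ⟨irreducibleComponent u, Set.eq_singleton_iff_unique_mem.2
      ⟨⟨irreducibleComponent_mem_irreducibleComponents u, mem_irreducibleComponent⟩, fun Z hZ => ?_⟩⟩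
    have key : ∀ Z, Z ∈ irreducibleComponents ↑U → u ∈ Z → ∃ a : U, IsMaximalPt a ∧ a ⤳ u ∧ Z = closure {a} := by
      intro Z hZ hu
      have hg := hZ.1.isGenericPoint_genericPoint_closure
      rw [(isClosed_of_mem_irreducibleComponents Z hZ).closure_eq] at hg
      exact ⟨_, isMaximalPt_of_isGenericPoint hZ hg, hg.specializes hu, hg.symm⟩
    obtain ⟨a, ha, hau, rfl⟩ := key Z hZ.1 hZ.2
    obtain ⟨b, hb, hbu, he⟩ := key _ (irreducibleComponent_mem_irreducibleComponents u) mem_irreducibleComponent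
    rw [he, h a b ha hb hau hbu]

theorem encard_eq_one_of_isGeomUnibranch {X : Scheme.{u}} {x : X} (hx : CAlg2.IsGeomUnibranch (X.presheaf.stalk x))
    {U : Scheme.{u}} (g : U ⟶ X) [Etale g] (u : U) (hu : g u = x) :
    {Z : Set ↑U | Z ∈ irreducibleComponents ↑U ∧ u ∈ Z}.encard = 1 := by
  subst hu
  exact (encard_eq_one_iff u).2 fun a b ha hb hau hbu =>
    eq_of_specializes_of_etale g hx hau hbu (ha.map_flat g) (hb.map_flat g)

section Affine

variable {X : Scheme.{u}} {W : X.Opens} (hW : IsAffineOpen W) {x : X} (hxW : x ∈ W)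

/-- The value of a section at a point. -/
noncomputable abbrev ev : Γ(X, W) ⟶ X.residueField x := X.presheaf.germ W x hxW ≫ X.residue x

theorem ker_ev : RingHom.ker (ev hxW).hom = (hW.primeIdealOf ⟨x, hxW⟩).asIdeal := by
  rw [hW.primeIdealOf_eq_map_closedPoint]
  ext r
  show residue _ ((X.presheaf.germ W x hxW).hom r) = 0 ↔ _
  rw [residue_eq_zero_iff]
  rfl

/-- The residue field at the prime of a point. -/
noncomputable def toResidue : (hW.primeIdealOf ⟨x, hxW⟩).asIdeal.ResidueField →+* X.residueField x :=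
  Ideal.ResidueField.lift _ (ev hxW).hom (ker_ev hW hxW).ge
    fun r hr => Ne.isUnit fun h => hr ((ker_ev hW hxW).le h)

theorem toResidue_bijective : Function.Bijective (toResidue hW hxW) := by
  refine ⟨RingHom.injective _, fun z => ?_⟩
  obtain ⟨o, rfl⟩ := Scheme.residue_surjective X x z
  letI := X.presheaf.algebra_section_stalk (⟨x, hxW⟩ : W)
  haveI := hW.isLocalization_stalk ⟨x, hxW⟩
  obtain ⟨⟨r, s⟩, hrs⟩ := IsLocalization.surj (hW.primeIdealOf ⟨x, hxW⟩).asIdeal.primeCompl o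
  have h : ∀ t, toResidue hW hxW (algebraMap Γ(X, W) _ t) = (ev hxW).hom t :=
    fun t => Ideal.ResidueField.lift_algebraMap ..
  refine ⟨algebraMap Γ(X, W) _ r / algebraMap Γ(X, W) _ s.1, ?_⟩
  rw [map_div₀, h, h, div_eq_iff]
  · exact ((map_mul (X.residue x).hom o _).symm.trans (congrArg (X.residue x).hom hrs)).symm
  · intro h0
    exact s.2 ((ker_ev hW hxW).le h0)

theorem spec_toResidue_comp : Spec.map (ev hxW) ≫ hW.fromSpec = X.fromSpecResidueField x := by
  rw [Spec.map_comp, Category.assoc]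
  rw [← IsAffineOpen.fromSpecStalk, IsAffineOpen.fromSpecStalk_eq_fromSpecStalk hW hxW]
  rfl

/-- Two minimal primes of an étale algebra at a point give two components. -/
theorem encard_ne_one_of_stage {T : Type u} [CommRing T] [Algebra Γ(X, W) T] (P₁ P₂ q : Ideal T) [q.IsPrime]
    (h₁ : P₁ ∈ minimalPrimes T) (h₂ : P₂ ∈ minimalPrimes T) (l₁ : P₁ ≤ q) (l₂ : P₂ ≤ q) (hne : P₁ ≠ P₂) :
    {Z : Set ↥(Spec (CommRingCat.of T)) | Z ∈ irreducibleComponents ↥(Spec (CommRingCat.of T)) ∧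
      (⟨q, inferInstance⟩ : PrimeSpectrum T) ∈ Z}.encard ≠ 1 := by
  intro h
  have hmax : ∀ (P : Ideal T) (hP : P ∈ minimalPrimes T),
      IsMaximalPt (X := Spec (CommRingCat.of T)) (⟨P, hP.1.1⟩ : PrimeSpectrum T) := by
    intro P hP z hz
    have hle : z.asIdeal ≤ P := (PrimeSpectrum.le_iff_specializes z ⟨P, hP.1.1⟩).2 hz
    exact PrimeSpectrum.ext (le_antisymm hle (hP.2 ⟨z.2, bot_le⟩ hle))
  have := (encard_eq_one_iff (U := Spec (CommRingCat.of T)) (⟨q, inferInstance⟩ : PrimeSpectrum T)).1 h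
    _ _ (hmax P₁ h₁) (hmax P₂ h₂) ((PrimeSpectrum.le_iff_specializes (R := T) ⟨P₁, h₁.1.1⟩ ⟨q, inferInstance⟩).1 l₁)
    ((PrimeSpectrum.le_iff_specializes (R := T) ⟨P₂, h₂.1.1⟩ ⟨q, inferInstance⟩).1 l₂)
  exact hne (congrArg PrimeSpectrum.asIdeal this)

end Affine

theorem etale_chart {X : Scheme.{u}} {W : X.Opens} (hW : IsAffineOpen W) (T : Type u) [CommRing T]
    [Algebra Γ(X, W) T] [Algebra.Etale Γ(X, W) T] :
    Etale (Spec.map (CommRingCat.ofHom (algebraMap Γ(X, W) T)) ≫ hW.fromSpec) := by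
  haveI : Etale (Spec.map (CommRingCat.ofHom (algebraMap Γ(X, W) T))) :=
    (HasRingHomProperty.Spec_iff (P := @Etale)).2 (RingHom.etale_algebraMap.2 inferInstance)
  haveI := hW.isOpenImmersion_fromSpec
  infer_instance

theorem isGeomUnibranch_iff_forall_etale (X : Scheme.{u}) (x : X) :
    CAlg2.IsGeomUnibranch ↑(X.presheaf.stalk x) ↔ ∀ (U : Scheme.{u}) (g : U ⟶ X) (u : U), Etale g → g u = x →
      {Z : Set ↑U | Z ∈ irreducibleComponents ↑U ∧ u ∈ Z}.encard = 1 := by
  refine ⟨fun hx U g u _ hu => encard_eq_one_of_isGeomUnibranch hx g u hu, fun H => ?_⟩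
  obtain ⟨W, hW, hxW, -⟩ := exists_isAffineOpen_mem_and_subset (x := x) (U := ⊤) trivial
  letI := X.presheaf.algebra_section_stalk (⟨x, hxW⟩ : W)
  haveI := hW.isLocalization_stalk ⟨x, hxW⟩
  obtain ⟨K, _, _, hker, hiff⟩ :=
    exists_field_isGeomUnibranch_iff (hW.primeIdealOf ⟨x, hxW⟩).asIdeal (X.presheaf.stalk x)
  refine hiff.2 (by_contra fun hu => ?_)
  obtain ⟨T, P₁, P₂, h₁, h₂, l₁, l₂, hne⟩ := exists_stage_of_not_unique hu
  haveI : (RingHom.ker T.pt).IsPrime := RingHom.ker_isPrime _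
  haveI := etale_chart hW T.Ring
  refine encard_ne_one_of_stage (W := W) P₁ P₂ (RingHom.ker T.pt) h₁ h₂ l₁ l₂ hne
    (H _ (Spec.map (CommRingCat.ofHom (algebraMap Γ(X, W) T.Ring)) ≫ hW.fromSpec) _ inferInstance ?_)
  rw [Scheme.Hom.comp_apply]
  have h : Spec.map (CommRingCat.ofHom (algebraMap Γ(X, W) T.Ring))
      (⟨RingHom.ker T.pt, inferInstance⟩ : PrimeSpectrum T.Ring) = hW.primeIdealOf ⟨x, hxW⟩ := by
    refine PrimeSpectrum.ext ?_
    rw [← hker]
    ext r
    show T.pt (algebraMap Γ(X, W) T.Ring r) = 0 ↔ _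
    rw [T.pt.commutes]
    rfl
  exact (congrArg hW.fromSpec h).trans (hW.fromSpec_primeIdealOf ⟨x, hxW⟩)

theorem isUnibranch_iff_forall_etaleNbhd (X : Scheme.{u}) (x : X) :
    CAlg2.IsUnibranch ↑(X.presheaf.stalk x) ↔ ∀ (U : Scheme.{u}) (g : U ⟶ X) (u : U), Hens2.IsEtaleNbhd g u x →
      {Z : Set ↑U | Z ∈ irreducibleComponents ↑U ∧ u ∈ Z}.encard = 1 := by
  obtain ⟨W, hW, hxW, -⟩ := exists_isAffineOpen_mem_and_subset (x := x) (U := ⊤) trivial
  letI := X.presheaf.algebra_section_stalk (⟨x, hxW⟩ : W)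
  haveI := hW.isLocalization_stalk ⟨x, hxW⟩
  rw [isUnibranch_iff_hull (hW.primeIdealOf ⟨x, hxW⟩).asIdeal (X.presheaf.stalk x)]
  constructor
  · intro hu U g u hg
    haveI := hg.etale
    obtain ⟨rfl⟩ : g u = x ∧ True := ⟨hg.base_eq, trivial⟩
    obtain ⟨N, hN, huN, e⟩ := exists_isAffineOpen_mem_and_subset (x := u) (U := g ⁻¹ᵁ W) hxW
    algebraize [(g.appLE W N e).hom]
    haveI : Algebra.Etale Γ(X, W) Γ(U, N) := by
      have := HasRingHomProperty.appLE (P := @Etale) g inferInstance ⟨W, hW⟩ ⟨N, hN⟩ e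
      exact RingHom.etale_algebraMap.1 this
    let κ := (hW.primeIdealOf ⟨g u, hxW⟩).asIdeal.ResidueField
    let e₁ := RingEquiv.ofBijective _ (toResidue_bijective hW hxW)
    let e₂ := RingEquiv.ofBijective (g.residueFieldMap u).hom hg.residue_bijective
    let σ₀ : Γ(U, N) →+* κ := e₁.symm.toRingHom.comp (e₂.symm.toRingHom.comp (ev huN).hom)
    let σ : Γ(U, N) →ₐ[Γ(X, W)] κ := { σ₀ with
      commutes' := fun r => by
        refine e₁.injective (e₂.injective ?_)
        show e₂ (e₁ (e₁.symm (e₂.symm ((ev huN).hom ((g.appLE W N e).hom r))))) = _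
        rw [e₁.apply_symm_apply, e₂.apply_symm_apply]
        show (U.residue u).hom ((U.presheaf.germ N u huN).hom ((g.appLE W N e).hom r)) =
          (g.residueFieldMap u).hom (toResidue hW hxW (algebraMap Γ(X, W) κ r))
        rw [toResidue, Ideal.ResidueField.lift_algebraMap]
        have hnat : g.appLE W N e ≫ U.presheaf.germ N u huN = X.presheaf.germ W (g u) hxW ≫ g.stalkMap u := by
          rw [Scheme.Hom.germ_stalkMap, Scheme.Hom.appLE, Category.assoc, TopCat.Presheaf.germ_res]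
        exact (congrArg (fun k : Γ(X, W) ⟶ U.presheaf.stalk u => (U.residue u).hom (k.hom r)) hnat).trans
          (congrArg (fun k => k.hom ((X.presheaf.germ W (g u) hxW).hom r))
            (Scheme.residue_residueFieldMap g u)).symm }
    obtain ⟨T, i, hi⟩ := Pt.exists_equiv Γ(U, N) σ
    have hkerσ : RingHom.ker σ.toRingHom = (hN.primeIdealOf ⟨u, huN⟩).asIdeal := by
      rw [← ker_ev hN huN]
      ext t
      show e₁.symm (e₂.symm ((ev huN).hom t)) = 0 ↔ (ev huN).hom t = 0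
      simp only [map_eq_zero_iff _ (RingEquiv.injective _)]
    refine (encard_eq_one_iff u).2 fun a b ha hb hau hbu => ?_
    have haN : a ∈ N := hau.mem_open N.2 huN
    have hbN : b ∈ N := hbu.mem_open N.2 huN
    have key : ∀ (v : U) (hv : v ∈ N), IsMaximalPt v → v ⤳ u →
        (hN.primeIdealOf ⟨v, hv⟩).asIdeal.comap i.toRingHom ∈ minimalPrimes T.Ring ∧
          (hN.primeIdealOf ⟨v, hv⟩).asIdeal.comap i.toRingHom ≤ RingHom.ker T.pt := by
      intro v hv hm hvu
      refine ⟨?_, ?_⟩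
      · have h := mem_minimalPrimes_primeIdealOf hN ⟨v, hv⟩ hm
        refine ⟨⟨Ideal.IsPrime.comap _, bot_le⟩, fun J hJ hle => ?_⟩
        haveI := hJ.1
        intro z hz
        have h2 : J.comap i.symm.toRingHom ≤ (hN.primeIdealOf ⟨v, hv⟩).asIdeal := fun w hw => by
          have h' : i (i.symm w) ∈ (hN.primeIdealOf ⟨v, hv⟩).asIdeal := hle hw
          rwa [i.apply_symm_apply] at h'
        have h3 : i.symm (i z) ∈ J := h.2 ⟨Ideal.IsPrime.comap _, bot_le⟩ h2 hz
        rwa [i.symm_apply_apply] at h3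
      · intro z hz
        have h2 : i z ∈ RingHom.ker σ.toRingHom :=
          hkerσ ▸ (primeIdealOf_le_iff hN ⟨v, hv⟩ ⟨u, huN⟩).2 hvu hz
        rw [RingHom.mem_ker, ← hi]
        exact h2
    obtain ⟨ha₁, ha₂⟩ := key a haN ha hau
    obtain ⟨hb₁, hb₂⟩ := key b hbN hb hbu
    have := Ideal.comap_injective_of_surjective i.toRingHom i.surjective
      (eq_of_mem_minimalPrimes hu T ha₁ hb₁ ha₂ hb₂)
    calc a = hN.fromSpec (hN.primeIdealOf ⟨a, haN⟩) := (hN.fromSpec_primeIdealOf ⟨a, haN⟩).symm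
      _ = hN.fromSpec (hN.primeIdealOf ⟨b, hbN⟩) := congrArg hN.fromSpec (PrimeSpectrum.ext this)
      _ = b := hN.fromSpec_primeIdealOf ⟨b, hbN⟩
  · intro H
    by_contra hu
    obtain ⟨T, P₁, P₂, h₁, h₂, l₁, l₂, hne⟩ := exists_stage_of_not_unique hu
    haveI : (RingHom.ker T.pt).IsPrime := RingHom.ker_isPrime _
    haveI := etale_chart hW T.Ring
    let ψ : T.Ring →+* X.residueField x := (toResidue hW hxW).comp T.pt.toRingHom
    let σ : Spec (X.residueField x) ⟶ Spec (CommRingCat.of T.Ring) := Spec.map (CommRingCat.ofHom ψ)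
    let g := Spec.map (CommRingCat.ofHom (algebraMap Γ(X, W) T.Ring)) ≫ hW.fromSpec
    have hσ : σ ≫ g = X.fromSpecResidueField x := by
      rw [← spec_toResidue_comp hW hxW]
      show Spec.map _ ≫ Spec.map _ ≫ _ = _
      rw [← Category.assoc, ← Spec.map_comp]
      congr 2
      refine CommRingCat.hom_ext (RingHom.ext fun r => ?_)
      show toResidue hW hxW (T.pt (algebraMap Γ(X, W) T.Ring r)) = (ev hxW).hom r
      rw [T.pt.commutes]
      exact Ideal.ResidueField.lift_algebraMap ..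
    have hn := FlatMor12.isEtaleNbhd_of_section g x σ hσ
    have hpt : σ (closedPoint (X.residueField x)) = (⟨RingHom.ker T.pt, inferInstance⟩ : PrimeSpectrum T.Ring) := by
      refine PrimeSpectrum.ext (Ideal.ext fun z => ?_)
      show ψ z ∈ maximalIdeal (X.residueField x) ↔ T.pt z = 0
      rw [IsLocalRing.maximalIdeal_eq_bot, Ideal.mem_bot]
      exact map_eq_zero_iff (toResidue hW hxW) (RingHom.injective _)
    rw [hpt] at hn
    exact encard_ne_one_of_stage (W := W) P₁ P₂ (RingHom.ker T.pt) h₁ h₂ l₁ l₂ hne (H _ g _ hn)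

end Groth.Agent.EGA43.UnibranchEtaleNbhd
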