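import Groth.Agent.CAlgSmall.UnibranchHull
import Groth.Agent.HenselLib.HullFlat
import Groth.Agent.HenselLib.PtPrime
import Groth.Agent.HenselLib.LocalHens
import Groth.Agent.Et18.SHull
import Groth.Agent.S2052
import Groth.Agent.S2135

/-!
# Minimal primes of hulls and of their étale stages
-/

set_option autoImplicit false
set_option backward.isDefEq.respectTransparency false
set_option linter.style.haveILetI false

universe u

open CategoryTheory IsLocalRing

namespace Groth.Agent.EGA43.UnibranchEtaleNbhd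

open Groth.Agent Groth.Agent.HenselLib

variable {R : Type u} [CommRing R] {K : Type u} [Field K] [Algebra R K]

theorem flat_of_algHom {B C : Type u} [CommRing B] [CommRing C] [Algebra R B] [Algebra R C]
    [Algebra.Etale R B] [Module.Flat R C] (j : B →ₐ[R] C) : j.toRingHom.Flat := by
  letI : Algebra B C := j.toRingHom.toAlgebra
  haveI : IsScalarTower R B C := .of_algebraMap_eq fun r => (j.commutes r).symm
  exact RingHom.flat_algebraMap_iff.2 (flat_of_flat_of_etale (R := R))

theorem comap_ι_mem_minimalPrimes (T : Pt R K) {P : Ideal (Hull R K)} (hP : P ∈ minimalPrimes (Hull R K)) :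
    P.comap (ι T).toRingHom ∈ minimalPrimes T.Ring := by
  letI : Algebra T.Ring (Hull R K) := (ι T).toRingHom.toAlgebra
  haveI : Module.Flat T.Ring (Hull R K) := RingHom.flat_algebraMap_iff.1 (flat_of_algHom (ι T))
  exact CAlgSmall.UnibranchHull.comap_mem_minimalPrimes hP

theorem comap_ι_le (T : Pt R K) {P : Ideal (Hull R K)} (hP : P.IsPrime) :
    P.comap (ι T).toRingHom ≤ RingHom.ker T.pt := by
  haveI := isLocalRing_hull (R := R) (K := K)
  intro z hz
  have h1 : ι T z ∈ RingHom.ker (hullPt R K) := by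
    rw [← maximalIdeal_hull]
    exact IsLocalRing.le_maximalIdeal hP.ne_top hz
  rwa [RingHom.mem_ker, hullPt_ι] at h1

/-- If the hull has one minimal prime, so has every stage at the point. -/
theorem eq_of_mem_minimalPrimes (hu : CAlgX.HasUniqueMinimalPrime (Hull R K)) (T : Pt R K)
    {P₁ P₂ : Ideal T.Ring} (h₁ : P₁ ∈ minimalPrimes T.Ring) (h₂ : P₂ ∈ minimalPrimes T.Ring)
    (l₁ : P₁ ≤ RingHom.ker T.pt) (l₂ : P₂ ≤ RingHom.ker T.pt) : P₁ = P₂ := by
  haveI := isLocalRing_hull (R := R) (K := K)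
  letI : Algebra T.Ring (Hull R K) := (ι T).toRingHom.toAlgebra
  haveI : Module.Flat T.Ring (Hull R K) := RingHom.flat_algebraMap_iff.1 (flat_of_algHom (ι T))
  obtain ⟨P₀, hP₀, huniq⟩ := hu
  have hm : (maximalIdeal (Hull R K)).comap (algebraMap T.Ring (Hull R K)) = RingHom.ker T.pt := by
    rw [maximalIdeal_hull]
    ext z
    show hullPt R K (ι T z) = 0 ↔ T.pt z = 0
    rw [hullPt_ι]
  have key : ∀ P ∈ minimalPrimes T.Ring, P ≤ RingHom.ker T.pt →
      P₀.comap (ι T).toRingHom = P := by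
    intro P hP hle
    haveI := hP.1.1
    haveI : (RingHom.ker T.pt).IsPrime := RingHom.ker_isPrime _
    haveI : (maximalIdeal (Hull R K)).LiesOver (RingHom.ker T.pt) := ⟨hm.symm⟩
    obtain ⟨Q, hQle, hQp, hQ⟩ := Ideal.exists_ideal_le_liesOver_of_le (p := P) (q := RingHom.ker T.pt)
      (maximalIdeal (Hull R K)) hle
    obtain ⟨Q', hQ', hQ'le⟩ := Ideal.exists_minimalPrimes_le (I := ⊥) (J := Q) bot_le
    rw [huniq Q' hQ'] at hQ'le
    have h := comap_ι_mem_minimalPrimes T hP₀
    have hle' : P₀.comap (ι T).toRingHom ≤ P := hQ.over ▸ Ideal.comap_mono hQ'le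
    exact le_antisymm hle' (hP.2 h.1 hle')
  rw [← key P₁ h₁ l₁, ← key P₂ h₂ l₂]

/-- Two minimal primes of the hull are seen at some stage. -/
theorem exists_stage_of_not_unique (hu : ¬ CAlgX.HasUniqueMinimalPrime (Hull R K)) :
    ∃ (T : Pt R K) (P₁ P₂ : Ideal T.Ring), P₁ ∈ minimalPrimes T.Ring ∧ P₂ ∈ minimalPrimes T.Ring ∧
      P₁ ≤ RingHom.ker T.pt ∧ P₂ ≤ RingHom.ker T.pt ∧ P₁ ≠ P₂ := by
  haveI := isLocalRing_hull (R := R) (K := K)
  obtain ⟨Q₁, h₁, -⟩ := Ideal.exists_minimalPrimes_le (I := ⊥) (J := maximalIdeal (Hull R K)) bot_le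
  by_cases h : ∀ Q ∈ minimalPrimes (Hull R K), Q = Q₁
  · exact absurd ⟨Q₁, h₁, h⟩ hu
  push Not at h
  obtain ⟨Q₂, h₂, hne⟩ := h
  obtain ⟨x, hx₂, hx₁⟩ : ∃ x ∈ Q₂, x ∉ Q₁ := by
    by_contra! h'
    exact hne (le_antisymm h' (h₁.2 h₂.1 h'))
  obtain ⟨T, y, rfl⟩ := exists_rep x
  refine ⟨T, _, _, comap_ι_mem_minimalPrimes T h₂, comap_ι_mem_minimalPrimes T h₁,
    comap_ι_le T h₂.1.1, comap_ι_le T h₁.1.1, fun he => hx₁ ?_⟩
  exact (SetLike.ext_iff.1 he y).1 hx₂

section Stalk

variable (p : Ideal R) [p.IsPrime] (O : Type u) [CommRing O] [IsLocalRing O] [Algebra R O]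
  [IsLocalization.AtPrime O p]

theorem isUnibranch_iff_hull : CAlg2.IsUnibranch O ↔
    CAlgX.HasUniqueMinimalPrime (Hull R p.ResidueField) := by
  haveI hOh := isHenselization_localH (R := O)
  let e : Localization.AtPrime p ≃ₐ[R] O := IsLocalization.algEquiv p.primeCompl _ _
  letI : Algebra (Localization.AtPrime p) (LocalH O) := ((algebraMap O (LocalH O)).comp e.toRingHom).toAlgebra
  letI : Algebra R (LocalH O) := ((algebraMap O (LocalH O)).comp (algebraMap R O)).toAlgebra
  haveI : IsScalarTower R (Localization.AtPrime p) (LocalH O) :=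
    .of_algebraMap_eq fun r => (congrArg (algebraMap O (LocalH O)) (e.commutes r)).symm
  haveI hl : IsLocalHom (algebraMap (Localization.AtPrime p) (LocalH O)) := ⟨fun z hz => by
    have h1 : IsUnit (e z) := IsLocalHom.map_nonunit (f := algebraMap O (LocalH O)) _ hz
    exact (isUnit_map_iff e z).1 h1⟩
  haveI : Hensel.IsHenselization (Localization.AtPrime p) (LocalH O) :=
    { henselian := hOh.henselian
      universal := fun T _ _ f hf => by
        haveI : IsLocalHom (f.comp e.symm.toRingHom) := ⟨fun z hz =>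
          (isUnit_map_iff e.symm z).1 (hf.map_nonunit _ hz)⟩
        obtain ⟨g, hg, huq⟩ := hOh.universal T (f.comp e.symm.toRingHom) inferInstance
        refine ⟨g, RingHom.ext fun z => ?_, fun g' hg' => huq g' (RingHom.ext fun z => ?_)⟩
        · show g (algebraMap O _ (e z)) = f z
          exact (RingHom.congr_fun hg (e z)).trans (congrArg f (e.symm_apply_apply z))
        · show g' (algebraMap O _ z) = f (e.symm z)
          rw [← hg']
          show _ = g' (algebraMap O _ (e (e.symm z)))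
          rw [e.apply_symm_apply] }
  obtain ⟨i⟩ := PtPrime.exists_equiv_hull p (LocalH O)
  rw [S2052.result (Ah := LocalH O)]
  exact ⟨CAlgSmall.UnibranchHull.hasUniqueMinimalPrime_congr i.symm.toRingEquiv,
    CAlgSmall.UnibranchHull.hasUniqueMinimalPrime_congr i.toRingEquiv⟩

theorem exists_field_isGeomUnibranch_iff : ∃ (K : Type u) (_ : Field K) (_ : Algebra R K),
    RingHom.ker (algebraMap R K) = p ∧
      (CAlg2.IsGeomUnibranch O ↔ CAlgX.HasUniqueMinimalPrime (Hull R K)) := by
  haveI hS := isStrictHenselization_localSH (R := O)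
  letI : Algebra R (LocalSH O) := ((algebraMap O (LocalSH O)).comp (algebraMap R O)).toAlgebra
  haveI : IsScalarTower R O (LocalSH O) := .of_algebraMap_eq fun _ => rfl
  obtain ⟨i, -⟩ := Et18.SHull.exists_equiv (A := R) (R := LocalSH O) O p.primeCompl
  refine ⟨ResidueField (LocalSH O), inferInstance, inferInstance, ?_, ?_⟩
  · ext r
    show residue (LocalSH O) (algebraMap O _ (algebraMap R O r)) = 0 ↔ r ∈ p
    rw [residue_eq_zero_iff, ← IsLocalization.AtPrime.to_map_mem_maximal_iff O p]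
    exact map_mem_nonunits_iff _ _
  · rw [S2135.result (Ash := LocalSH O)]
    exact ⟨CAlgSmall.UnibranchHull.hasUniqueMinimalPrime_congr i.symm.toRingEquiv,
      CAlgSmall.UnibranchHull.hasUniqueMinimalPrime_congr i.toRingEquiv⟩

end Stalk

end Groth.Agent.EGA43.UnibranchEtaleNbhd
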